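import Groth.Prelude.Def_KRR
import Groth.Agent.TriCat.RightDerivedBridge
import Groth.Agent.QCoh.HHExact
import Groth.Agent.AmpleVan.Tw
import Groth.Agent.PnCoh.Finite.TwistInv
import Groth.Agent.ChowX.QuasiProj
import Groth.Agent.PicClLib.Basic
import Groth.Agent.AmpleX.Generated
import Groth.Agent.QCoh.RpushAbGod

set_option autoImplicit false
set_option linter.style.haveILetI false
universe u
open CategoryTheory CategoryTheory.Limits AlgebraicGeometry
attribute [local instance] HasDerivedCategory.standard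

namespace Groth.Agent.RegSheaf7
open Groth.Agent Groth.Agent.H23.PicMul

variable {n : ℕ} {T : Scheme.{u}}

private noncomputable def g (n : ℕ) : ULift.{u} (Fin (n + 1)) → MvPolynomial (Fin (n + 1)) (ULift.{u} ℤ) :=
  fun j => MvPolynomial.X j.down

private theorem g_mem (n : ℕ) : ∀ j, g n j ∈ CohB1.polyGrading n (ULift.{u} ℤ) 1 := fun j => ProjPt.X_mem j.down

private theorem g_cov (n : ℕ) : ⨆ j, Proj.basicOpen (CohB1.polyGrading n (ULift.{u} ℤ)) (g n j) = ⊤ :=
  eq_top_iff.2 fun y _ => by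
    obtain ⟨j, hj⟩ := PnCoh.Chow.cov_coord _ y
    exact TopologicalSpace.Opens.mem_iSup.2 ⟨j, hj⟩

theorem isInvertible_twistOver (d : ℤ) : PicF.IsInvertible (Twist.twistOver n T d) :=
  PicClLib.isInvertible_pullback _ (PnCoh.Finite.isInvertible_twist (g n) (g_mem n) (g_cov n) d)

theorem cl_twistOver_add (a b : ℤ) :
    PicF.cl (Twist.twistOver n T a) * PicF.cl (Twist.twistOver n T b) = PicF.cl (Twist.twistOver n T (a + b)) := by
  obtain ⟨e⟩ := PnCoh.Finite.twist_tensor_iso (𝒜 := CohB1.polyGrading n (ULift.{u} ℤ)) (g n) (g_mem n) (g_cov n) a b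
  obtain ⟨e'⟩ := H23.PicMul.pull
    (pullback.fst (CohB1.ProjSpace.toSpec n (ULift.{u} ℤ)) (specULiftZIsTerminal.from T))
    (Twist.twistProjSpace n (ULift.{u} ℤ) a) (Twist.twistProjSpace n (ULift.{u} ℤ) b)
  rw [← cl_tensor]
  exact cl_eq_iff.2 ⟨e'.symm ≪≫ (Scheme.Modules.pullback _).mapIso e⟩

theorem twF_twF (a b c : ℤ) (hc : a + b = c) (F : (KRR.PY n T).Modules) :
    Nonempty (KRR.twF n T a (KRR.twF n T b F) ≅ KRR.twF n T c F) := by
  refine cl_eq_iff.1 ?_
  show PicF.cl (CohB1.tensorMod _ (CohB1.tensorMod _ F)) = PicF.cl (CohB1.tensorMod _ F)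
  rw [cl_tensor, cl_tensor, cl_tensor, ← mul_assoc, cl_twistOver_add, hc]

theorem shortExact_twF (d : ℤ) {S : ShortComplex (KRR.PY n T).Modules} (hS : S.ShortExact) :
    (S.map ((DCoh.tensorBi (X := KRR.PY n T)).obj (Twist.twistOver n T d))).ShortExact := by
  haveI := AmpleVan.isEquivalence_tw (isInvertible_twistOver (n := n) (T := T) d)
  let e : AmpleVan.tw (Twist.twistOver n T d) ≅
      (DCoh.tensorBi (X := KRR.PY n T)).obj (Twist.twistOver n T d) :=
    ((KFlatLib.tensorBiFlipIso (KRR.PY n T)).app (Twist.twistOver n T d))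
  haveI : ((DCoh.tensorBi (X := KRR.PY n T)).obj (Twist.twistOver n T d)).IsEquivalence :=
    Functor.isEquivalence_of_iso e
  haveI : ((DCoh.tensorBi (X := KRR.PY n T)).obj (Twist.twistOver n T d)).Additive :=
    Functor.additive_of_preserves_binary_products _
  exact hS.map_of_exact _

/-- the long exact sequence, in twisted form -/
theorem exists_seq {S : ShortComplex (KRR.PY n T).Modules} (hS : S.ShortExact) (d : ℤ) (i : ℕ) :
    (IsZero ((Coh.RpushAb (KRR.pr n T) i).obj (Coh.toAb (KRR.twF n T d S.X₁))) →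
      IsZero ((Coh.RpushAb (KRR.pr n T) i).obj (Coh.toAb (KRR.twF n T d S.X₃))) →
      IsZero ((Coh.RpushAb (KRR.pr n T) i).obj (Coh.toAb (KRR.twF n T d S.X₂)))) ∧
    (IsZero ((Coh.RpushAb (KRR.pr n T) i).obj (Coh.toAb (KRR.twF n T d S.X₂))) →
      IsZero ((Coh.RpushAb (KRR.pr n T) (i + 1)).obj (Coh.toAb (KRR.twF n T d S.X₁))) →
      IsZero ((Coh.RpushAb (KRR.pr n T) i).obj (Coh.toAb (KRR.twF n T d S.X₃)))) ∧
    (IsZero ((Coh.RpushAb (KRR.pr n T) (i + 1)).obj (Coh.toAb (KRR.twF n T d S.X₂))) →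
      Epi ((Coh.RpushAb (KRR.pr n T) i).map ((QCoh.toAbFunctor (KRR.PY n T)).map
        (((DCoh.tensorBi (X := KRR.PY n T)).obj (Twist.twistOver n T d)).map S.g))) →
      IsZero ((Coh.RpushAb (KRR.pr n T) (i + 1)).obj (Coh.toAb (KRR.twF n T d S.X₁)))) := by
  obtain ⟨δ, w₁, w₂, w₃, h₁, h₂, h₃⟩ := TriCat.exists_rightDerived_ses (Coh.pushAb (KRR.pr n T))
    (QCoh.toAb_shortExact (shortExact_twF d hS)) i
  refine ⟨fun a c => h₁.isZero_of_both_zeros (a.eq_of_src _ _) (c.eq_of_tgt _ _),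
    fun b c => h₂.isZero_of_both_zeros (b.eq_of_src _ _) (c.eq_of_tgt _ _), fun b he => ?_⟩
  have hδ : δ = 0 := by
    haveI := he
    exact (cancel_epi ((Coh.RpushAb (KRR.pr n T) i).map ((QCoh.toAbFunctor (KRR.PY n T)).map
      (((DCoh.tensorBi (X := KRR.PY n T)).obj (Twist.twistOver n T d)).map S.g)))).1 (w₂.trans comp_zero.symm)
  exact h₃.isZero_of_both_zeros hδ (b.eq_of_tgt _ _)

theorem isZero_twF_congr {a b c : ℤ} (hc : a + b = c) (i : ℕ) (F : (KRR.PY n T).Modules) :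
    IsZero ((Coh.RpushAb (KRR.pr n T) i).obj (Coh.toAb (KRR.twF n T a (KRR.twF n T b F)))) ↔
      IsZero ((Coh.RpushAb (KRR.pr n T) i).obj (Coh.toAb (KRR.twF n T c F))) :=
  ((Coh.RpushAb (KRR.pr n T) i).mapIso
    ((QCoh.toAbFunctor (KRR.PY n T)).mapIso (twF_twF a b c hc F).some)).isZero_iff

theorem regX2 {S : ShortComplex (KRR.PY n T).Modules} (hS : S.ShortExact)
    (h₁ : KRR.IsRegSheaf n T S.X₁) (h₃ : KRR.IsRegSheaf n T S.X₃) : KRR.IsRegSheaf n T S.X₂ :=
  fun i hi => (exists_seq hS _ i).1 (h₁ i hi) (h₃ i hi)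

theorem regX3 {S : ShortComplex (KRR.PY n T).Modules} (hS : S.ShortExact)
    (h₂ : KRR.IsRegSheaf n T S.X₂) (h₁ : KRR.IsRegSheaf n T (KRR.twF n T 1 S.X₁)) :
    KRR.IsRegSheaf n T S.X₃ :=
  fun i hi => (exists_seq hS _ i).2.1 (h₂ i hi)
    ((isZero_twF_congr (by push_cast; ring) (i + 1) S.X₁).1 (h₁ (i + 1) (by omega)))

theorem regX1 {S : ShortComplex (KRR.PY n T).Modules} (hS : S.ShortExact)
    (h₂ : KRR.IsRegSheaf n T (KRR.twF n T 1 S.X₂)) (h₃ : KRR.IsRegSheaf n T S.X₃)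
    (he : Epi ((Scheme.Modules.pushforward (KRR.pr n T)).map S.g)) :
    KRR.IsRegSheaf n T (KRR.twF n T 1 S.X₁) := by
  intro i hi
  obtain ⟨j, rfl⟩ := Nat.exists_eq_add_of_le' hi
  refine (isZero_twF_congr (c := -(j : ℤ)) (by push_cast; ring) (j + 1) S.X₁).2 ?_
  refine (exists_seq hS (-(j : ℤ)) j).2.2
    ((isZero_twF_congr (by push_cast; ring) (j + 1) S.X₂).1 (h₂ (j + 1) (by omega))) ?_
  rcases Nat.eq_zero_or_pos j with rfl | hj
  · obtain ⟨δ, w₁, w₂, w₃, -, -, -⟩ := TriCat.exists_rightDerived_ses (Coh.pushAb (KRR.pr n T))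
      (QCoh.toAb_shortExact hS) 0
    -- the untwisted map is epi
    haveI : PreservesFiniteColimits (QCoh.toAbFunctor T) :=
      (QCoh.toAbFunctor T).preservesFiniteColimits_of_preservesHomology
    haveI : Epi ((Coh.pushAb (KRR.pr n T)).map ((QCoh.toAbFunctor (KRR.PY n T)).map S.g)) := by
      haveI := he
      exact inferInstanceAs (Epi ((QCoh.toAbFunctor T).map ((Scheme.Modules.pushforward (KRR.pr n T)).map S.g)))
    haveI : PreservesFiniteLimits (Coh.pushAb (KRR.pr n T)) := QCoh.preservesFiniteLimits_pushAb _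
    -- twisting by O(0)
    obtain ⟨u⟩ : Nonempty (Twist.twistOver n T (-((0 : ℕ) : ℤ)) ≅ Coh.structureModule (KRR.PY n T)) := by
      refine cl_eq_iff.1 ?_
      rw [← H23.PicMul.one_def]
      refine (H23.PicMul.isUnit_cl (isInvertible_twistOver (n := n) (T := T) (-((0 : ℕ) : ℤ)))).mul_left_cancel ?_
      rw [cl_twistOver_add, mul_one]
      simp
    let θ : (DCoh.tensorBi (X := KRR.PY n T)).obj (Twist.twistOver n T (-((0 : ℕ) : ℤ))) ≅ 𝟭 _ :=
      (DCoh.tensorBi (X := KRR.PY n T)).mapIso u ≪≫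
        ((KFlatLib.tensorBiFlipIso (KRR.PY n T)).app (Coh.structureModule _)).symm ≪≫ AmpleVan.twUnit
    have hnat := (Functor.isoWhiskerRight θ (QCoh.toAbFunctor (KRR.PY n T) ⋙
      Coh.RpushAb (KRR.pr n T) 0)).hom.naturality S.g
    haveI : Epi ((Coh.RpushAb (KRR.pr n T) 0).map ((QCoh.toAbFunctor (KRR.PY n T)).map S.g)) := by
      have hn := (Coh.pushAb (KRR.pr n T)).rightDerivedZeroIsoSelf.hom.naturality
        ((QCoh.toAbFunctor (KRR.PY n T)).map S.g)
      exact (Arrow.isoMk ((Coh.pushAb (KRR.pr n T)).rightDerivedZeroIsoSelf.app _)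
        ((Coh.pushAb (KRR.pr n T)).rightDerivedZeroIsoSelf.app _) hn.symm : Arrow.mk _ ≅ Arrow.mk _) |>
        fun e => ((MorphismProperty.epimorphisms _).arrow_mk_iso_iff e).2 ‹_›
    exact ((MorphismProperty.epimorphisms _).arrow_mk_iso_iff
      (Arrow.isoMk ((Functor.isoWhiskerRight θ (QCoh.toAbFunctor (KRR.PY n T) ⋙
        Coh.RpushAb (KRR.pr n T) 0)).app _) ((Functor.isoWhiskerRight θ (QCoh.toAbFunctor (KRR.PY n T) ⋙
        Coh.RpushAb (KRR.pr n T) 0)).app _) hnat.symm)).2 ‹_›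
  · exact IsZero.epi (h₃ j hj) _

end Groth.Agent.RegSheaf7
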